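import Cfsg.Agent.H771.KTools_m3
import Cfsg.Agent.H440.TwoGen.Cox
import Cfsg.Agent.EvenType.CTwoCard
import Cfsg.Agent.HN.A12Group
import Cfsg.Agent.HN.Main
import Cfsg.Agent.Th.Main475
import Cfsg.Agent.Prune
set_option linter.all false
prune_inst 0x7f00000000000000000000000000000000000000000000000000000000000000000000000000000000000000000000000000000000000000000000000000000000000000000000000000000000000000003fffffffffffffffffffffffffffbeffbdffffffff
open scoped Cfsg.Agent.FastGrp

/-!
# Lower bounds for the number of classes of the large sporadic groups (helper328)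

`12 ≤ k(G)` for `G` one of `Fi₂₂`, `Fi₂₃`, `Fi₂₄'`, `HN`, `Th`, `B`, `M`: element orders.
-/

set_option autoImplicit false

namespace Cfsg.Agent.H328.KSpor

open Cfsg Cfsg.Spor Equiv Cfsg.Agent.H92.KTools

universe u

/-! ### Element orders in symmetric and alternating groups -/

theorem hasOrd_perm {k : ℕ} (m : Multiset ℕ) (hs : m.sum ≤ k) (h2 : ∀ a ∈ m, 2 ≤ a) :
    HasOrd (Perm (Fin k)) m.lcm := by
  obtain ⟨g, hg⟩ := (Equiv.Perm.exists_with_cycleType_iff (α := Fin k)).2 ⟨by simpa using hs, h2⟩
  exact ⟨g, by rw [← Equiv.Perm.lcm_cycleType, hg]⟩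

theorem hasOrd_alt {k : ℕ} (m : Multiset ℕ) (hs : m.sum ≤ k) (h2 : ∀ a ∈ m, 2 ≤ a)
    (he : Even (m.sum + Multiset.card m)) : HasOrd (alternatingGroup (Fin k)) m.lcm := by
  obtain ⟨g, hg⟩ := (Equiv.Perm.exists_with_cycleType_iff (α := Fin k)).2 ⟨by simpa using hs, h2⟩
  have hg' : g ∈ alternatingGroup (Fin k) := by
    rw [Equiv.Perm.mem_alternatingGroup, Equiv.Perm.sign_of_cycleType, hg, he.neg_one_pow]
  exact ⟨⟨g, hg'⟩, by rw [Subgroup.orderOf_mk, ← Equiv.Perm.lcm_cycleType, hg]⟩

/-! ### Coxeter paths -/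

theorem eq_of_comm_braid {G : Type*} [Group G] {x t : G} (hx : x * x = 1) (ht : t * t = 1)
    (hc : x * t = t * x) (hb : x * t * x = t * x * t) : x = t := by
  have h1 : x * t * x = t := by rw [hc, mul_assoc, hx, mul_one]
  have h2 : t * x * t = x := by rw [← hc, mul_assoc, ht, mul_one]
  rw [h1, h2] at hb
  exact hb.symm

/-- a path of involutions gives a copy of the symmetric group -/
theorem exists_inj {G : Type*} [Group G] {n : ℕ} (hn : 4 ≤ n) (p : ℕ → G)
    (hsq : ∀ i < n, p i * p i = 1)
    (hbr : ∀ i, i + 1 < n → p i * p (i + 1) * p i = p (i + 1) * p i * p (i + 1))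
    (hcm : ∀ i j, i + 1 < j → j < n → p i * p j = p j * p i) (h01 : p 0 ≠ p 1) :
    ∃ φ : Perm (Fin (n + 1)) →* G, Function.Injective φ := by
  obtain ⟨φ, hφ⟩ := Cfsg.Agent.H440.TwoGen.Path.exists_hom n p hsq hbr hcm
  refine ⟨φ, ?_⟩
  rw [← MonoidHom.ker_eq_bot_iff]
  by_contra hne
  have hnt : Nontrivial φ.ker := (Subgroup.nontrivial_iff_ne_bot _).2 hne
  have hle := Equiv.Perm.alternatingGroup_le_of_normal (α := Fin (n + 1))
    (by rw [Nat.card_eq_fintype_card, Fintype.card_fin]; omega) hnt
  apply h01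
  have h0 := hφ ⟨0, by omega⟩
  have h1 := hφ ⟨1, by omega⟩
  have hmem : (swap (⟨0, by omega⟩ : Fin n).castSucc (⟨0, by omega⟩ : Fin n).succ *
      swap (⟨1, by omega⟩ : Fin n).castSucc (⟨1, by omega⟩ : Fin n).succ) ∈
        alternatingGroup (Fin (n + 1)) := by
    rw [Equiv.Perm.mem_alternatingGroup, Equiv.Perm.sign_mul, Equiv.Perm.sign_swap,
      Equiv.Perm.sign_swap]
    · decide
    · intro h; simp [Fin.ext_iff] at h
    · intro h; simp [Fin.ext_iff] at h
  have h := hle hmem
  rw [MonoidHom.mem_ker, map_mul, h0, h1] at h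
  simp only at h
  have h11 : p 1 * p 1 = 1 := hsq 1 (by omega)
  calc p 0 = p 0 * (p 1 * p 1) := by rw [h11, mul_one]
    _ = p 1 := by rw [← mul_assoc, h, one_mul]

/-- the presented group of a diagram with a path: if the first two generators agree then all of them agree -/
theorem path_eq {α : Type*} [DecidableEq α] {edges : List (α × ℕ × α)} {extra : List (FreeGroup α)}
    {n : ℕ} (pth : ℕ → α) (hnode : ∀ x : α, x ∈ coxNodes edges)
    (hbr : ∀ i < n - 1, coxLabel edges (pth i) (pth (i + 1)) = 3)
    (hcm : ∀ i < n, ∀ j < n, i + 1 < j → coxLabel edges (pth i) (pth j) = 2)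
    (h01 : Cfsg.Agent.H440.TwoGen.Cox.g edges extra (pth 0) = Cfsg.Agent.H440.TwoGen.Cox.g edges extra (pth 1)) (i : ℕ) (hi : i < n) :
    Cfsg.Agent.H440.TwoGen.Cox.g edges extra (pth i) = Cfsg.Agent.H440.TwoGen.Cox.g edges extra (pth 0) := by
  induction i using Nat.strong_induction_on with
  | _ i ih =>
    rcases Nat.lt_or_ge i 2 with h | h
    · interval_cases i
      · rfl
      · exact h01.symm
    · obtain ⟨j, rfl⟩ : ∃ j, i = j + 2 := ⟨i - 2, by omega⟩
      have e1 := ih (j + 1) (by omega) (by omega)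
      have e0 := ih j (by omega) (by omega)
      apply eq_of_comm_braid (Cfsg.Agent.H440.TwoGen.Cox.sq (hnode _)) (Cfsg.Agent.H440.TwoGen.Cox.sq (hnode _))
      · rw [← e0]
        exact (Cfsg.Agent.H440.TwoGen.Cox.comm (hnode _) (hnode _) (hcm j (by omega) (j + 2) hi (by omega))).symm
      · rw [← e1]
        exact (Cfsg.Agent.H440.TwoGen.Cox.braid (hnode _) (hnode _) (hbr (j + 1) (by omega))).symm

open Cfsg.Agent.H440.TwoGen

/-- **Diagrams with an arm of length two**: path `pth 0, …, pth (n-1)`, centre `pth k`, arm `a, b`. -/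
theorem exists_perm {α : Type*} [DecidableEq α] {edges : List (α × ℕ × α)} {extra : List (FreeGroup α)}
    {n : ℕ} (hn : 4 ≤ n) (pth : ℕ → α) (k : ℕ) (hkn : k < n) (a b : α)
    (hnode : ∀ x : α, x ∈ coxNodes edges)
    (hbr : ∀ i < n - 1, coxLabel edges (pth i) (pth (i + 1)) = 3)
    (hcm : ∀ i < n, ∀ j < n, i + 1 < j → coxLabel edges (pth i) (pth j) = 2)
    (hak : coxLabel edges a (pth k) = 3) (ha0 : coxLabel edges a (pth 0) = 2)
    (hba : coxLabel edges b a = 3) (hb0 : coxLabel edges b (pth 0) = 2)
    (hall : ∀ x : α, x = a ∨ x = b ∨ ∃ i < n, x = pth i)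
    (h2 : ¬ Nat.card (CoxPresented α edges extra) ∣ 2) :
    ∃ φ : Perm (Fin (n + 1)) →* CoxPresented α edges extra, Function.Injective φ := by
  apply exists_inj hn (fun i => Cox.g edges extra (pth i)) (fun i _ => Cox.sq (hnode _))
    (fun i hi => Cox.braid (hnode _) (hnode _) (hbr i (by omega)))
    (fun i j hij hj => Cox.comm (hnode _) (hnode _) (hcm i (by omega) j hj hij))
  intro h01
  apply h2
  have hp := path_eq (extra := extra) pth hnode hbr hcm h01
  set t := Cox.g edges extra (pth 0) with ht
  have ht2 : t * t = 1 := Cox.sq (hnode _)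
  have ha : Cox.g edges extra a = t := by
    apply eq_of_comm_braid (Cox.sq (hnode _)) ht2
    · exact Cox.comm (hnode _) (hnode _) ha0
    · rw [← hp k hkn]
      exact Cox.braid (hnode _) (hnode _) hak
  have hb : Cox.g edges extra b = t := by
    apply eq_of_comm_braid (Cox.sq (hnode _)) ht2
    · exact Cox.comm (hnode _) (hnode _) hb0
    · rw [← ha]
      exact Cox.braid (hnode _) (hnode _) hba
  have htop : Subgroup.zpowers t = ⊤ := by
    apply Cox.eq_top_of_forall
    intro x
    rcases hall x with rfl | rfl | ⟨i, hi, rfl⟩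
    · rw [ha]; exact Subgroup.mem_zpowers t
    · rw [hb]; exact Subgroup.mem_zpowers t
    · rw [hp i hi]; exact Subgroup.mem_zpowers t
  rw [← Subgroup.card_top, ← htop, Nat.card_zpowers, orderOf_dvd_iff_pow_eq_one, pow_two, ht2]

/-! ### The groups -/

/-- path of `Fi₂₂` -/
def p22 (i : ℕ) : Fi22.Gen := [Fi22.Gen.a, .b, .c, .d, .e, .f, .g].getD i .a

theorem s8_fi22 : ∃ φ : Perm (Fin 8) →* Spor.Fi22, Function.Injective φ :=
  exists_perm (n := 7) (by norm_num) p22 3 (by norm_num) Fi22.Gen.h Fi22.Gen.i
    (by intro x; cases x <;> decide) (by decide) (by decide) (by decide) (by decide) (by decide) (by decide)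
    (by intro x; cases x <;> first | exact Or.inl rfl | exact Or.inr (Or.inl rfl) | exact Or.inr (Or.inr (by decide)))
    (by rw [EvenType.CTwoCard.fi22 (K := Spor.Fi22) ⟨MulEquiv.refl _⟩]; norm_num)

/-- path of `Fi₂₃` -/
def p23 (i : ℕ) : Fi23.Gen := [Fi23.Gen.a, .b, .c, .d, .e, .f, .g, .j].getD i .a

theorem s9_fi23 : ∃ φ : Perm (Fin 9) →* Spor.Fi23, Function.Injective φ :=
  exists_perm (n := 8) (by norm_num) p23 3 (by norm_num) Fi23.Gen.h Fi23.Gen.i
    (by intro x; cases x <;> decide) (by decide) (by decide) (by decide) (by decide) (by decide) (by decide)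
    (by intro x; cases x <;> first | exact Or.inl rfl | exact Or.inr (Or.inl rfl) | exact Or.inr (Or.inr (by decide)))
    (by rw [EvenType.CTwoCard.fi23 (K := Spor.Fi23) ⟨MulEquiv.refl _⟩]; norm_num)

/-- path of `Fi₂₄` -/
def p24 (i : ℕ) : Fi24.Gen := [Fi24.Gen.l, .k, .a, .b, .c, .d, .e, .f, .g, .j].getD i .l

theorem s11_fi24 : ∃ φ : Perm (Fin 11) →* Spor.Fi24, Function.Injective φ :=
  exists_perm (n := 10) (by norm_num) p24 5 (by norm_num) Fi24.Gen.h Fi24.Gen.i
    (by intro x; cases x <;> decide) (by decide) (by decide) (by decide) (by decide) (by decide) (by decide)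
    (by intro x; cases x <;> first | exact Or.inl rfl | exact Or.inr (Or.inl rfl) | exact Or.inr (Or.inr (by decide)))
    (by
      intro h
      have h1 := EvenType.CTwoCard.fi24 (K := Spor.Fi24') ⟨MulEquiv.refl _⟩
      have h2 : Nat.card Spor.Fi24' ∣ Nat.card Spor.Fi24 := Subgroup.card_subgroup_dvd_card _
      have h3 := Nat.le_of_dvd (by norm_num) (h2.trans h)
      rw [h1] at h3
      norm_num at h3)

theorem twelve_of_perm8 {G : Type u} [Group G] [Finite G] (φ : Perm (Fin 8) →* G)
    (hφ : Function.Injective φ) (h11 : 11 ∣ Nat.card G) : 12 ≤ Nat.card (ConjClasses G) := by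
  have h := orders_le (G := G) {1, 2, 3, 4, 5, 6, 7, 8, 10, 11, 12, 15} (by
    have key : ∀ m : Multiset ℕ, m.sum ≤ 8 → (∀ a ∈ m, 2 ≤ a) → HasOrd G m.lcm :=
      fun m h1 h2 => (hasOrd_perm m h1 h2).of_injective φ hφ
    intro n hn
    simp only [Finset.mem_insert, Finset.mem_singleton] at hn
    rcases hn with rfl | rfl | rfl | rfl | rfl | rfl | rfl | rfl | rfl | rfl | rfl | rfl
    · exact hasOrd_one G
    · exact key {2} (by decide) (by decide)
    · exact key {3} (by decide) (by decide)
    · exact key {4} (by decide) (by decide)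
    · exact key {5} (by decide) (by decide)
    · exact key {6} (by decide) (by decide)
    · exact key {7} (by decide) (by decide)
    · exact key {8} (by decide) (by decide)
    · exact key {2, 5} (by decide) (by decide)
    · exact hasOrd_prime (by norm_num) h11
    · exact key {3, 4} (by decide) (by decide)
    · exact key {3, 5} (by decide) (by decide))
  exact h

theorem twelve_of_perm9 {G : Type u} [Group G] [Finite G] (φ : Perm (Fin 9) →* G)
    (hφ : Function.Injective φ) : 12 ≤ Nat.card (ConjClasses G) := by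
  have h := orders_le (G := G) {1, 2, 3, 4, 5, 6, 7, 8, 9, 10, 12, 15} (by
    have key : ∀ m : Multiset ℕ, m.sum ≤ 9 → (∀ a ∈ m, 2 ≤ a) → HasOrd G m.lcm :=
      fun m h1 h2 => (hasOrd_perm m h1 h2).of_injective φ hφ
    intro n hn
    simp only [Finset.mem_insert, Finset.mem_singleton] at hn
    rcases hn with rfl | rfl | rfl | rfl | rfl | rfl | rfl | rfl | rfl | rfl | rfl | rfl
    · exact hasOrd_one G
    · exact key {2} (by decide) (by decide)
    · exact key {3} (by decide) (by decide)
    · exact key {4} (by decide) (by decide)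
    · exact key {5} (by decide) (by decide)
    · exact key {6} (by decide) (by decide)
    · exact key {7} (by decide) (by decide)
    · exact key {8} (by decide) (by decide)
    · exact key {9} (by decide) (by decide)
    · exact key {2, 5} (by decide) (by decide)
    · exact key {3, 4} (by decide) (by decide)
    · exact key {3, 5} (by decide) (by decide))
  exact h

theorem twelve_of_alt {G : Type u} [Group G] [Finite G] {k : ℕ} (hk : 11 ≤ k)
    (φ : alternatingGroup (Fin k) →* G) (hφ : Function.Injective φ) :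
    12 ≤ Nat.card (ConjClasses G) := by
  have h := orders_le (G := G) {1, 2, 3, 4, 5, 6, 7, 9, 10, 11, 12, 14} (by
    have key : ∀ m : Multiset ℕ, m.sum ≤ 11 → (∀ a ∈ m, 2 ≤ a) → Even (m.sum + Multiset.card m) →
        HasOrd G m.lcm :=
      fun m h1 h2 h3 => (hasOrd_alt m (h1.trans hk) h2 h3).of_injective φ hφ
    intro n hn
    simp only [Finset.mem_insert, Finset.mem_singleton] at hn
    rcases hn with rfl | rfl | rfl | rfl | rfl | rfl | rfl | rfl | rfl | rfl | rfl | rfl
    · exact hasOrd_one G
    · exact key {2, 2} (by decide) (by decide) (by decide)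
    · exact key {3} (by decide) (by decide) (by decide)
    · exact key {2, 4} (by decide) (by decide) (by decide)
    · exact key {5} (by decide) (by decide) (by decide)
    · exact key {2, 2, 3} (by decide) (by decide) (by decide)
    · exact key {7} (by decide) (by decide) (by decide)
    · exact key {9} (by decide) (by decide) (by decide)
    · exact key {2, 2, 5} (by decide) (by decide) (by decide)
    · exact key {11} (by decide) (by decide) (by decide)
    · exact key {2, 3, 4} (by decide) (by decide) (by decide)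
    · exact key {2, 2, 7} (by decide) (by decide) (by decide))
  exact h

theorem fi22 {S : Type u} [Group S] (h : Spor.IsoFi22 S) : 12 ≤ Nat.card (ConjClasses S) := by
  have hc := EvenType.CTwoCard.fi22 h
  have hfin : Finite S := Nat.finite_of_card_ne_zero (by rw [hc]; norm_num)
  obtain ⟨e⟩ := h
  obtain ⟨φ, hφ⟩ := s8_fi22
  exact twelve_of_perm8 (e.symm.toMonoidHom.comp φ) (e.symm.injective.comp hφ)
    (by rw [hc]; norm_num)

theorem fi23 {S : Type u} [Group S] (h : Spor.IsoFi23 S) : 12 ≤ Nat.card (ConjClasses S) := by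
  have hc := EvenType.CTwoCard.fi23 h
  have hfin : Finite S := Nat.finite_of_card_ne_zero (by rw [hc]; norm_num)
  obtain ⟨e⟩ := h
  obtain ⟨φ, hφ⟩ := s9_fi23
  exact twelve_of_perm9 (e.symm.toMonoidHom.comp φ) (e.symm.injective.comp hφ)

theorem fi24 {S : Type u} [Group S] (h : Spor.IsoFi24' S) : 12 ≤ Nat.card (ConjClasses S) := by
  have hc := EvenType.CTwoCard.fi24 h
  have hfin : Finite S := Nat.finite_of_card_ne_zero (by rw [hc]; norm_num)
  obtain ⟨e⟩ := h
  obtain ⟨φ, hφ⟩ := s11_fi24
  have hmem : ∀ x : alternatingGroup (Fin 11), φ x ∈ commutator Spor.Fi24 := by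
    intro x
    have h1 : (x : Perm (Fin 11)) ∈ commutator (Perm (Fin 11)) := by
      rw [alternatingGroup.commutator_perm_eq (by simp)]
      exact x.2
    have h2 : (commutator (Perm (Fin 11))).map φ ≤ commutator Spor.Fi24 := by
      rw [commutator_def, commutator_def, Subgroup.map_commutator]
      exact Subgroup.commutator_mono le_top le_top
    exact h2 (Subgroup.mem_map_of_mem φ h1)
  let ψ : alternatingGroup (Fin 11) →* Spor.Fi24' :=
    (φ.comp (alternatingGroup (Fin 11)).subtype).codRestrict (commutator Spor.Fi24) hmem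
  have hψ : Function.Injective ψ := by
    intro x y hxy
    have h1 : φ x = φ y := congrArg Subtype.val hxy
    exact Subtype.ext (hφ h1)
  exact twelve_of_alt (k := 11) le_rfl (e.symm.toMonoidHom.comp ψ) (e.symm.injective.comp hψ)

theorem hn {S : Type u} [Group S] (h : Spor.IsoHN S) : 12 ≤ Nat.card (ConjClasses S) := by
  obtain ⟨e⟩ := h
  have hs : IsSimpleGroup Cfsg.Spor.HN := Cfsg.Agent.HN.Main.simple_HN
  have hc : Nat.card Cfsg.Spor.HN = 273030912000000 := Cfsg.Agent.S1701.result.2
  have hfin' : Finite Cfsg.Spor.HN := Nat.finite_of_card_ne_zero (by rw [hc]; norm_num)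
  have hfin : Finite S := Finite.of_equiv _ e.symm.toEquiv
  obtain ⟨K, ⟨f⟩⟩ := Cfsg.Agent.HN.A12Group.exists_alternating
  exact twelve_of_alt (k := 12) (by norm_num)
    (e.symm.toMonoidHom.comp (K.subtype.comp f.symm.toMonoidHom))
    (e.symm.injective.comp (K.subtype_injective.comp f.symm.injective))

theorem th {S : Type u} [Group S] (h : Spor.IsoTh S) : 12 ≤ Nat.card (ConjClasses S) := by
  have hc := EvenType.CTwoCard.th h
  have hfin : Finite S := Nat.finite_of_card_ne_zero (by rw [hc]; norm_num)
  obtain ⟨e⟩ := h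
  have hfin' : Finite Cfsg.Spor.Th := Finite.of_equiv _ e.toEquiv
  obtain ⟨z, -, Q, hQ, -, -, ⟨f⟩⟩ := Cfsg.Agent.Th.Main475.main
  have key : ∀ m : Multiset ℕ, m.sum ≤ 9 → (∀ a ∈ m, 2 ≤ a) → Even (m.sum + Multiset.card m) →
      HasOrd S m.lcm := by
    intro m h1 h2 h3
    have h4 : HasOrd (↥(Subgroup.centralizer ({z} : Set Cfsg.Spor.Th))) m.lcm :=
      (hasOrd_alt m h1 h2 h3).of_surjective (f.toMonoidHom.comp (QuotientGroup.mk' Q))
        (f.surjective.comp (QuotientGroup.mk'_surjective Q))
    exact h4.of_subgroup.of_equiv e.symm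
  have hp : ∀ p : ℕ, p.Prime → p ∣ 90745943887872000 → HasOrd S p :=
    fun p hp hd => hasOrd_prime hp (by rw [hc]; exact hd)
  have h := orders_le (G := S) {1, 2, 3, 4, 5, 6, 7, 9, 10, 12, 13, 15} (by
    intro n hn
    simp only [Finset.mem_insert, Finset.mem_singleton] at hn
    rcases hn with rfl | rfl | rfl | rfl | rfl | rfl | rfl | rfl | rfl | rfl | rfl | rfl
    · exact hasOrd_one S
    · exact hp 2 (by norm_num) (by norm_num)
    · exact hp 3 (by norm_num) (by norm_num)
    · exact key {2, 4} (by decide) (by decide) (by decide)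
    · exact hp 5 (by norm_num) (by norm_num)
    · exact key {2, 2, 3} (by decide) (by decide) (by decide)
    · exact hp 7 (by norm_num) (by norm_num)
    · exact key {9} (by decide) (by decide) (by decide)
    · exact key {2, 2, 5} (by decide) (by decide) (by decide)
    · exact key {2, 3, 4} (by decide) (by decide) (by decide)
    · exact hp 13 (by norm_num) (by norm_num)
    · exact key {3, 5} (by decide) (by decide) (by decide))
  exact h

theorem b {S : Type u} [Group S] (h : Spor.IsoB S) : 12 ≤ Nat.card (ConjClasses S) := by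
  have hc := EvenType.CTwoCard.b h
  have hfin : Finite S := Nat.finite_of_card_ne_zero (by rw [hc]; norm_num)
  have hp : ∀ p : ℕ, p.Prime → p ∣ 4154781481226426191177580544000000 → HasOrd S p :=
    fun p hp hd => hasOrd_prime hp (by rw [hc]; exact hd)
  have h := orders_le (G := S) {1, 2, 3, 5, 7, 11, 13, 17, 19, 23, 31, 47} (by
    intro n hn
    simp only [Finset.mem_insert, Finset.mem_singleton] at hn
    rcases hn with rfl | hn
    · exact hasOrd_one S
    · rcases hn with rfl | rfl | rfl | rfl | rfl | rfl | rfl | rfl | rfl | rfl | rfl <;>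
        exact hp _ (by norm_num) (by norm_num))
  exact h

theorem m {S : Type u} [Group S] (h : Spor.IsoM S) : 12 ≤ Nat.card (ConjClasses S) := by
  have hc := EvenType.CTwoCard.m h
  have hfin : Finite S := Nat.finite_of_card_ne_zero (by rw [hc]; norm_num)
  have hp : ∀ p : ℕ, p.Prime → p ∣ 808017424794512875886459904961710757005754368000000000 →
      HasOrd S p :=
    fun p hp hd => hasOrd_prime hp (by rw [hc]; exact hd)
  have h := orders_le (G := S) {1, 2, 3, 5, 7, 11, 13, 17, 19, 23, 29, 31} (by
    intro n hn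
    simp only [Finset.mem_insert, Finset.mem_singleton] at hn
    rcases hn with rfl | hn
    · exact hasOrd_one S
    · rcases hn with rfl | rfl | rfl | rfl | rfl | rfl | rfl | rfl | rfl | rfl | rfl <;>
        exact hp _ (by norm_num) (by norm_num))
  exact h

end Cfsg.Agent.H328.KSpor
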