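import Cfsg.Agent.H341.ThreeElts2
import Cfsg.Agent.H413.JOneLocal
import Cfsg.Agent.S0494
import Cfsg.Agent.S0495
import Cfsg.Agent.Walter.MetaPSL
import Cfsg.Agent.FastGrp
import Cfsg.Agent.Prune
set_option linter.all false
prune_inst 0x7f00000000000000000000000000000000000000000000000000000000000000000000000000000000000000000000000000000000000000000000000000000000000000000000000000000000000000003fffffffffffffffffffffffffffbeffbdffffffff
open scoped Cfsg.Agent.FastGrp

/-!
# Known simple groups with a self-centralizing element of order 3 (helper328)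

`of_known`: a known nonabelian finite simple group with an element whose centralizer has order 3 is isomorphic to
`A₅` or to `PSL(2, 7)` (Feit-Thompson, simple case, via the list).
-/

set_option autoImplicit false

namespace Cfsg.Agent.H328.SelfThree

open Matrix Subgroup Cfsg Cfsg.Agent.Phan
open Cfsg.Agent.H341

universe u v

/-- every element of order 3 is self-centralizing, and the order is not divisible by 9 -/
structure Self3 (K : Type*) [Group K] : Prop where
  fin : Finite K
  cent : ∀ g : K, orderOf g = 3 → Nat.card (centralizer ({g} : Set K)) = 3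
  nine : ¬ 9 ∣ Nat.card K

theorem card_centralizer_equiv {K : Type*} [Group K] {L : Type*} [Group L] (e : K ≃* L) (g : L) :
    Nat.card (centralizer ({e.symm g} : Set K)) = Nat.card (centralizer ({g} : Set L)) := by
  have h3 : (centralizer ({e.symm g} : Set K)).map (e : K →* L) = centralizer ({g} : Set L) := by
    ext x
    constructor
    · rintro ⟨y, hy, rfl⟩
      rw [SetLike.mem_coe, mem_centralizer_singleton_iff] at hy
      rw [mem_centralizer_singleton_iff]
      have := congrArg e hy
      simpa only [_root_.MonoidHom.coe_coe, _root_.map_mul, _root_.MulEquiv.apply_symm_apply] using this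
    · intro hx
      rw [mem_centralizer_singleton_iff] at hx
      refine ⟨e.symm x, ?_, by simp⟩
      rw [SetLike.mem_coe, mem_centralizer_singleton_iff, ← map_mul, hx, map_mul]
  rw [← h3, Subgroup.card_map_of_injective e.injective]

theorem Self3.congr {K : Type*} [Group K] {L : Type*} [Group L] (e : K ≃* L) (h : Self3 K) : Self3 L := by
  have := h.fin
  refine ⟨Finite.of_equiv _ e.toEquiv, fun g hg => ?_, ?_⟩
  · have h1 : orderOf (e.symm g) = 3 := by rw [MulEquiv.orderOf_eq, hg]
    rw [← card_centralizer_equiv e g]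
    exact h.cent _ h1
  · rw [← Nat.card_congr e.toEquiv]
    exact h.nine

/-- an element with centralizer of order 3 -/
theorem of_cent {G : Type*} [Group G] [Finite G] (hG : ¬ IsMulCommutative G) (w : G)
    (hw : Nat.card (centralizer ({w} : Set G)) = 3) : orderOf w = 3 ∧ Self3 G := by
  classical
  have : Fact (Nat.Prime 3) := ⟨Nat.prime_three⟩
  have hwC : w ∈ centralizer ({w} : Set G) := by rw [mem_centralizer_singleton_iff]
  have hw1 : w ≠ 1 := by
    rintro rfl
    apply hG
    have htop : centralizer ({1} : Set G) = ⊤ := by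
      rw [eq_top_iff]
      intro g _
      rw [mem_centralizer_singleton_iff, mul_one, one_mul]
    rw [htop, card_top] at hw
    have : IsCyclic G := isCyclic_of_prime_card hw
    exact this.isMulCommutative
  have hwo : orderOf w = 3 := by
    have h1 : orderOf w ∣ 3 := by
      rw [← hw]
      have := _root_.orderOf_dvd_natCard (⟨w, hwC⟩ : centralizer ({w} : Set G))
      rwa [Subgroup.orderOf_mk] at this
    rcases (Nat.dvd_prime Nat.prime_three).1 h1 with h | h
    · rw [orderOf_eq_one_iff] at h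
      exact absurd h hw1
    · exact h
  have hz : zpowers w = centralizer ({w} : Set G) := by
    apply Subgroup.eq_of_le_of_card_ge
    · rw [zpowers_le]; exact hwC
    · rw [hw, Nat.card_zpowers, hwo]
  -- the Sylow 3-subgroup has order 3
  have hp : IsPGroup 3 (zpowers w) := IsPGroup.of_card (n := 1) (by rw [Nat.card_zpowers, hwo, pow_one])
  obtain ⟨P, hP⟩ := hp.exists_le_sylow
  have hwP : w ∈ (P : Subgroup G) := hP (mem_zpowers w)
  have hPne : Nontrivial (P : Subgroup G) := ⟨⟨⟨w, hwP⟩, 1, fun h => hw1 (congrArg Subtype.val h)⟩⟩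
  have hPle : (P : Subgroup G) ≤ centralizer ({w} : Set G) := by
    have hc := P.isPGroup'.center_nontrivial
    obtain ⟨⟨z, hz'⟩, hzne⟩ := exists_ne (1 : center (P : Subgroup G))
    have hz1 : (z : G) ≠ 1 := by
      intro h
      apply hzne
      exact Subtype.ext (Subtype.ext h)
    have hzw : (z : G) ∈ zpowers w := by
      rw [hz, mem_centralizer_singleton_iff]
      exact (congrArg Subtype.val (mem_center_iff.1 hz' ⟨w, hwP⟩)).symm
    -- `w ∈ ⟨z⟩`
    have hwz : w ∈ zpowers (z : G) := by
      have h1 : zpowers (z : G) = zpowers w := by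
        apply Subgroup.eq_of_le_of_card_ge
        · rw [zpowers_le]; exact hzw
        · rw [Nat.card_zpowers, Nat.card_zpowers, hwo]
          have h2 : orderOf (z : G) ∣ orderOf w := orderOf_dvd_of_mem_zpowers hzw
          rw [hwo] at h2
          rcases (Nat.dvd_prime Nat.prime_three).1 h2 with h | h
          · rw [orderOf_eq_one_iff] at h
            exact absurd h hz1
          · omega
      rw [h1]; exact mem_zpowers w
    intro p hp'
    obtain ⟨k, hk⟩ := mem_zpowers_iff.1 hwz
    rw [mem_centralizer_singleton_iff, ← hk]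
    have h1 : p * (z : G) = z * p := congrArg Subtype.val (mem_center_iff.1 hz' ⟨p, hp'⟩)
    exact (Commute.zpow_right (show Commute p (z : G) from h1) k).eq
  have hPeq : (P : Subgroup G) = zpowers w := le_antisymm (hz ▸ hPle) hP
  have hPcard : Nat.card (P : Subgroup G) = 3 := by rw [hPeq, Nat.card_zpowers, hwo]
  refine ⟨hwo, inferInstance, ?_, ?_⟩
  · intro g hg
    have hpg : IsPGroup 3 (zpowers g) := IsPGroup.of_card (n := 1) (by rw [Nat.card_zpowers, hg, pow_one])
    obtain ⟨Q, hQ⟩ := hpg.exists_le_sylow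
    have hQcard : Nat.card (Q : Subgroup G) = 3 := by
      rw [Q.card_eq_multiplicity, ← P.card_eq_multiplicity, hPcard]
    have hQeq : (Q : Subgroup G) = zpowers g := by
      symm
      apply Subgroup.eq_of_le_of_card_ge hQ
      rw [hQcard, Nat.card_zpowers, hg]
    obtain ⟨c, hc⟩ := MulAction.exists_smul_eq G P Q
    -- `c w c⁻¹ ∈ ⟨g⟩`
    have hcg : c * w * c⁻¹ ∈ zpowers g := by
      rw [← hQeq, ← hc]
      rw [Sylow.smul_def, Sylow.pointwise_smul_def, Subgroup.mem_pointwise_smul_iff_inv_smul_mem]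
      rw [← map_inv, MulAut.smul_def, MulAut.conj_apply]
      have : c⁻¹ * (c * w * c⁻¹) * c⁻¹⁻¹ = w := by group
      rw [this]
      exact hwP
    have hzp : zpowers (c * w * c⁻¹) = zpowers g := by
      apply Subgroup.eq_of_le_of_card_ge
      · rw [zpowers_le]; exact hcg
      · rw [Nat.card_zpowers, Nat.card_zpowers, hg]
        have := (MulAut.conj c).orderOf_eq w
        rw [MulAut.conj_apply] at this
        rw [this, hwo]
    have hcc : centralizer ({c * w * c⁻¹} : Set G) = centralizer ({g} : Set G) := by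
      have h1 : ∀ a b : G, zpowers a = zpowers b → centralizer ({a} : Set G) ≤ centralizer ({b} : Set G) := by
        intro a b hab x hx
        rw [mem_centralizer_singleton_iff] at hx ⊢
        have hb : b ∈ zpowers a := by rw [hab]; exact mem_zpowers b
        obtain ⟨k, rfl⟩ := mem_zpowers_iff.1 hb
        exact (Commute.zpow_right (show Commute x a from hx) k).eq
      exact le_antisymm (h1 _ _ hzp) (h1 _ _ hzp.symm)
    rw [← hcc, ← hw]
    have := card_centralizer_equiv (MulAut.conj c).symm w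
    rw [← this]
    rfl
  · intro h9
    have h2 : 3 ^ 2 ∣ Nat.card G := by norm_num; exact h9
    have h3 := P.pow_dvd_card_of_pow_dvd_card h2
    rw [hPcard] at h3
    norm_num at h3

/-- cancel a factor prime to `9` -/
theorem of_mul {d c n : ℕ} (hd : ¬ 3 ∣ d) (h : d * c = n) (hn : 9 ∣ n) : 9 ∣ c := by
  rw [← h] at hn
  have h1 : Nat.Coprime 9 d := by
    have h2 : Nat.Coprime 3 d := (Nat.Prime.coprime_iff_not_dvd Nat.prime_three).2 hd
    have := Nat.Coprime.pow_left 2 h2
    simpa using this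
  exact h1.dvd_of_dvd_mul_left hn

/-- a cyclic subgroup of order divisible by 3 has order 3 -/
theorem Self3.card_cyclic {K : Type*} [Group K] (h : Self3 K) (C : Subgroup K) (hC : IsCyclic C)
    (h3 : 3 ∣ Nat.card C) : Nat.card C = 3 := by
  have := h.fin
  have : Fact (Nat.Prime 3) := ⟨Nat.prime_three⟩
  obtain ⟨⟨g, hgC⟩, hg⟩ := exists_prime_orderOf_dvd_card' 3 h3
  rw [Subgroup.orderOf_mk] at hg
  have hle : C ≤ centralizer ({g} : Set K) := by
    intro x hx
    rw [mem_centralizer_singleton_iff]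
    have := hC.isMulCommutative
    exact congrArg Subtype.val (isMulCommutative_iff.mp this ⟨x, hx⟩ ⟨g, hgC⟩)
  have h1 := Subgroup.card_dvd_of_le hle
  rw [h.cent g hg] at h1
  exact Nat.dvd_antisymm h1 h3

section PSL2

variable {F : Type} [Field F] [Fintype F]

theorem psl2 (hq : 4 ≤ Fintype.card F) (h : Self3 (ProjectiveSpecialLinearGroup (Fin 2) F)) :
    Fintype.card F = 4 ∨ Fintype.card F = 5 ∨ Fintype.card F = 7 := by
  have hc := ThreeList.card_psl (F := F) (n := 2) le_rfl
  rw [show 2 - 1 = 1 by rfl, Finset.prod_range_one] at hc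
  norm_num only [_root_.pow_one] at hc
  set q := Fintype.card F with hqd
  have hmod : q % 3 = 0 ∨ q % 3 = 1 ∨ q % 3 = 2 := by omega
  rcases hmod with h0 | h1 | h2
  · exfalso
    apply h.nine
    apply of_mul ThreeList.not_dvd_gcd_two hc
    apply Dvd.dvd.mul_right
    obtain ⟨p, _, n, hp, hn⟩ := FiniteField.card' F
    have h3 : 3 ∣ q := Nat.dvd_of_mod_eq_zero h0
    rw [← hqd] at hn
    rw [hn] at h3 ⊢
    have h4 := Nat.Prime.dvd_of_dvd_pow Nat.prime_three h3
    have h5 : 3 = p := (Nat.prime_dvd_prime_iff_eq Nat.prime_three hp).1 h4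
    subst h5
    have h6 : 2 ≤ (n : ℕ) := by
      by_contra h7
      have h8 : (n : ℕ) = 1 := by have := n.pos; omega
      rw [h8] at hn
      omega
    exact (show 9 = 3 ^ 2 by norm_num) ▸ pow_dvd_pow 3 h6
  · obtain ⟨C, hC, hd⟩ := Cfsg.Agent.Walter.MetaPSL.exists_split (F := F)
    rw [← hqd] at hd
    have h3 : 3 ∣ Nat.card C := by
      have h4 : 3 ∣ q - 1 := by omega
      have h5 := h4.trans hd
      exact (Nat.Coprime.dvd_of_dvd_mul_left (by norm_num) h5)
    rw [h.card_cyclic C hC h3] at hd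
    have h6 := Nat.le_of_dvd (by norm_num) hd
    have h7 : q ≤ 7 := by omega
    interval_cases q <;> omega
  · obtain ⟨C, -, -, -, hC, hd, -, -⟩ := Cfsg.Agent.ClassicalGeometry.PSLTorus.exists_psl_torus F
    rw [← hqd] at hd
    have hg : Nat.gcd 2 (q - 1) ∣ q + 1 := by
      by_cases h2' : 2 ∣ q - 1
      · exact (Nat.gcd_dvd_left 2 _).trans (by omega)
      · have : Nat.gcd 2 (q - 1) = 1 := (Nat.Prime.coprime_iff_not_dvd Nat.prime_two).2 h2'
        rw [this]; exact one_dvd _
    have hm : Nat.card C * Nat.gcd 2 (q - 1) = q + 1 := by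
      rw [hd]; exact Nat.div_mul_cancel hg
    have hg2 : Nat.gcd 2 (q - 1) = 1 ∨ Nat.gcd 2 (q - 1) = 2 :=
      (Nat.dvd_prime Nat.prime_two).1 (Nat.gcd_dvd_left 2 _)
    have h3 : 3 ∣ Nat.card C := by
      have h4 : 3 ∣ q + 1 := by omega
      rw [← hm] at h4
      rcases hg2 with h5 | h5
      · rw [h5, mul_one] at h4; exact h4
      · rw [h5] at h4
        exact Nat.Coprime.dvd_of_dvd_mul_right (by norm_num) h4
    rw [h.card_cyclic C hC h3] at hm
    rcases hg2 with h5 | h5
    · rw [h5] at hm; omega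
    · rw [h5] at hm; omega

end PSL2

section Order

variable {F : Type} [Field F] [Fintype F]

theorem three_dvd_four {q : ℕ} (h : ¬ 3 ∣ q) : 9 ∣ (q ^ 2 - 1) * (q ^ 4 - 1) :=
  mul_dvd_mul (ThreeList.three_sq h) (ThreeList.three_four h)

theorem psl4 (hq : Fintype.card F % 9 = 2 ∨ Fintype.card F % 9 = 5) :
    9 ∣ Nat.card (ProjectiveSpecialLinearGroup (Fin 4) F) := by
  have hc := ThreeList.card_psl (F := F) (n := 4) (by norm_num)
  apply of_mul ThreeList.not_dvd_gcd_four hc
  apply Dvd.dvd.mul_left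
  rw [show 4 - 1 = 3 by rfl, Finset.prod_range_succ, Finset.prod_range_succ, Finset.prod_range_one]
  norm_num only []
  have h := three_dvd_four (q := Fintype.card F) (by omega)
  rw [mul_assoc, mul_comm (Fintype.card F ^ 3 - 1), ← mul_assoc]
  exact Dvd.dvd.mul_right h _

theorem psl5 (hq : Fintype.card F % 9 = 2 ∨ Fintype.card F % 9 = 5) :
    9 ∣ Nat.card (ProjectiveSpecialLinearGroup (Fin 5) F) := by
  have hc := ThreeList.card_psl (F := F) (n := 5) (by norm_num)
  have hg : ¬ 3 ∣ Nat.gcd 5 (Fintype.card F - 1) := fun h => by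
    have := h.trans (Nat.gcd_dvd_left 5 _)
    omega
  apply of_mul hg hc
  apply Dvd.dvd.mul_left
  rw [show 5 - 1 = 4 by rfl, Finset.prod_range_succ, Finset.prod_range_succ, Finset.prod_range_succ,
    Finset.prod_range_one]
  norm_num only []
  have h := three_dvd_four (q := Fintype.card F) (by omega)
  apply Dvd.dvd.mul_right
  rw [mul_assoc, mul_comm (Fintype.card F ^ 3 - 1), ← mul_assoc]
  exact Dvd.dvd.mul_right h _

theorem psu4 {q : ℕ} (hF : Fintype.card F = q ^ 2) (hq : q % 9 = 4 ∨ q % 9 = 7) :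
    9 ∣ Nat.card (PSU 4 F q) := by
  have hc := ThreeList.card_psu (F := F) (n := 4) hF (by norm_num)
  apply of_mul ThreeList.not_dvd_gcd_four hc
  apply Dvd.dvd.mul_left
  rw [show 4 - 1 = 3 by rfl, Finset.prod_range_succ, Finset.prod_range_succ, Finset.prod_range_one,
    if_pos (by decide), if_neg (by decide), if_pos (by decide)]
  norm_num only []
  have h := three_dvd_four (q := q) (by omega)
  rw [mul_assoc, mul_comm (q ^ 3 + 1), ← mul_assoc]
  exact Dvd.dvd.mul_right h _

theorem psu5 {q : ℕ} (hF : Fintype.card F = q ^ 2) (hq : q % 9 = 4 ∨ q % 9 = 7) :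
    9 ∣ Nat.card (PSU 5 F q) := by
  have hc := ThreeList.card_psu (F := F) (n := 5) hF (by norm_num)
  have hg : ¬ 3 ∣ Nat.gcd 5 (q + 1) := fun h => by
    have := h.trans (Nat.gcd_dvd_left 5 _)
    omega
  apply of_mul hg hc
  apply Dvd.dvd.mul_left
  rw [show 5 - 1 = 4 by rfl, Finset.prod_range_succ, Finset.prod_range_succ, Finset.prod_range_succ,
    Finset.prod_range_one, if_pos (by decide), if_neg (by decide), if_pos (by decide), if_neg (by decide)]
  norm_num only []
  have h := three_dvd_four (q := q) (by omega)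
  apply Dvd.dvd.mul_right
  rw [mul_assoc, mul_comm (q ^ 3 + 1), ← mul_assoc]
  exact Dvd.dvd.mul_right h _

theorem psp4 (hq : ¬ 3 ∣ Fintype.card F) : 9 ∣ Nat.card (PSp 2 F) := by
  have hc := ThreeList.card_psp (F := F) (m := 2) (by norm_num)
  apply of_mul ThreeList.not_dvd_gcd_two hc
  apply Dvd.dvd.mul_left
  rw [Finset.prod_range_succ, Finset.prod_range_one]
  norm_num only []
  exact three_dvd_four hq

theorem psl3_one (hq : Fintype.card F % 3 = 1) :
    9 ∣ Nat.card (ProjectiveSpecialLinearGroup (Fin 3) F) := by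
  have hc := ThreeList.card_psl (F := F) (n := 3) (by norm_num)
  rw [show 3 - 1 = 2 by rfl, Finset.prod_range_succ, Finset.prod_range_one] at hc
  norm_num only [] at hc
  set q := Fintype.card F
  have hg : Nat.gcd 3 (q - 1) = 3 := Nat.gcd_eq_left (by omega)
  rw [hg] at hc
  -- `27 ∣ (q² - 1) (q³ - 1)`
  have h1 : 27 ∣ (q ^ 2 - 1) * (q ^ 3 - 1) := by
    have h2 := ThreeList.three_sq (q := q) (by omega)
    have h3 : 9 ∣ q ^ 3 - 1 := by
      have h4 : q % 9 = 1 ∨ q % 9 = 4 ∨ q % 9 = 7 := by omega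
      have h5 : 1 ≤ q ^ 3 := Nat.one_le_pow _ _ (by omega)
      apply (Nat.modEq_iff_dvd' h5).1
      change 1 % 9 = q ^ 3 % 9
      rcases h4 with h4 | h4 | h4 <;> rw [Nat.pow_mod, h4]
    exact mul_dvd_mul h2 h3
  have h2 : 3 * 9 ∣ 3 * Nat.card (ProjectiveSpecialLinearGroup (Fin 3) F) := by
    rw [hc]
    exact Dvd.dvd.mul_left h1 _
  exact Nat.dvd_of_mul_dvd_mul_left (by norm_num) h2

theorem psu3_two {q : ℕ} (hF : Fintype.card F = q ^ 2) (hq : q % 3 = 2) :
    9 ∣ Nat.card (PSU 3 F q) := by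
  have hc := ThreeList.card_psu (F := F) (n := 3) hF (by norm_num)
  rw [show 3 - 1 = 2 by rfl, Finset.prod_range_succ, Finset.prod_range_one, if_pos (by decide),
    if_neg (by decide)] at hc
  norm_num only [] at hc
  have hg : Nat.gcd 3 (q + 1) = 3 := Nat.gcd_eq_left (by omega)
  rw [hg] at hc
  have h1 : 27 ∣ (q ^ 2 - 1) * (q ^ 3 + 1) := by
    have h2 := ThreeList.three_sq (q := q) (by omega)
    have h3 : 9 ∣ q ^ 3 + 1 := by
      have h4 : q % 9 = 2 ∨ q % 9 = 5 ∨ q % 9 = 8 := by omega
      apply Nat.dvd_of_mod_eq_zero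
      rcases h4 with h4 | h4 | h4 <;> rw [Nat.add_mod, Nat.pow_mod, h4]
    exact mul_dvd_mul h2 h3
  have h2 : 3 * 9 ∣ 3 * Nat.card (PSU 3 F q) := by
    rw [hc]
    exact Dvd.dvd.mul_left h1 _
  exact Nat.dvd_of_mul_dvd_mul_left (by norm_num) h2

end Order

section Torus

/-- a diagonal matrix constant on the block commutes with the block -/
theorem diag_extM {F : Type*} [Field F] {m n : ℕ} {e : Fin m → Fin n} {d : Fin n → F} {r : F}
    (hd : ∀ i, d (e i) = r) (A : Matrix (Fin m) (Fin m) F) :
    diagonal d * extM e A = extM e A * diagonal d := by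
  have h1 : diagonal d * inc F e = r • inc F e := by
    ext x i
    rw [diagonal_mul, Matrix.smul_apply, inc_apply, smul_eq_mul]
    by_cases h : x = e i
    · rw [h, hd]
    · rw [if_neg h, mul_zero, mul_zero]
  have h2 : (inc F e)ᵀ * diagonal d = r • (inc F e)ᵀ := by
    have := congrArg Matrix.transpose h1
    rwa [transpose_mul, diagonal_transpose, transpose_smul] at this
  unfold extM
  rw [Matrix.mul_add, Matrix.add_mul, Matrix.mul_one, Matrix.one_mul, Matrix.mul_assoc _ _ (diagonal d), h2,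
    ← Matrix.mul_assoc, ← Matrix.mul_assoc, h1]
  simp only [Matrix.smul_mul, Matrix.mul_smul]

variable {F : Type} [Field F] [Fintype F]

/-- in a `Self3` group an element commuting with an element of order 3 has cube 1 -/
theorem Self3.cube {K : Type*} [Group K] (h : Self3 K) {g x : K} (hg : orderOf g = 3) (hx : x * g = g * x) :
    x ^ 3 = 1 := by
  have := h.fin
  have h1 : x ∈ centralizer ({g} : Set K) := mem_centralizer_singleton_iff.2 hx
  have h2 := _root_.orderOf_dvd_natCard (⟨x, h1⟩ : centralizer ({g} : Set K))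
  rw [h.cent g hg, Subgroup.orderOf_mk] at h2
  exact orderOf_dvd_iff_pow_eq_one.1 h2

theorem psl3_two (hq : Fintype.card F % 3 = 2) (h : Self3 (ProjectiveSpecialLinearGroup (Fin 3) F)) :
    Fintype.card F = 2 := by
  classical
  obtain ⟨w, hw⟩ := ThreeElts.exists_three_SL2 (F := F) (by omega)
  obtain ⟨g0, hg0⟩ := IsCyclic.exists_generator (α := Fˣ)
  have hg0o : orderOf g0 = Fintype.card F - 1 := by
    rw [orderOf_eq_card_of_forall_mem_zpowers hg0, Nat.card_eq_fintype_card, Fintype.card_units]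
  let r : F := (g0 : F)
  have hr : r ≠ 0 := g0.ne_zero
  let d : Fin 3 → F := ![r, r, (r ^ 2)⁻¹]
  have hdet : (diagonal d).det = 1 := by
    rw [det_diagonal, Fin.prod_univ_three]
    change r * r * (r ^ 2)⁻¹ = 1
    rw [← pow_two]
    exact mul_inv_cancel₀ (pow_ne_zero _ hr)
  let D : _root_.Matrix.SpecialLinearGroup (Fin 3) F := ⟨diagonal d, hdet⟩
  let e : Fin 2 → Fin 3 := Fin.castSucc
  have he : Function.Injective e := Fin.castSucc_injective 2
  have hde : ∀ i, d (e i) = r := by
    intro i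
    fin_cases i <;> rfl
  have hcomm : D * ThreeElts.slExt e he w = ThreeElts.slExt e he w * D :=
    Subtype.ext (diag_extM hde w.1)
  let π := QuotientGroup.mk' (center (_root_.Matrix.SpecialLinearGroup (Fin 3) F))
  have hx : ∀ i, (2 : Fin 3) ≠ e i := by
    intro i
    fin_cases i <;> decide
  have hord : orderOf (ThreeElts.pslExt (F := F) e he w) = 3 := by
    rw [orderOf_injective _ (ThreeElts.pslExt_injective he hx), hw]
  have h1 : (π D) ^ 3 = 1 := by
    apply h.cube hord
    change π D * π (ThreeElts.slExt e he w) = π (ThreeElts.slExt e he w) * π D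
    rw [← map_mul, hcomm, map_mul]
  rw [← map_pow] at h1
  have h2 : D ^ 3 ∈ center (_root_.Matrix.SpecialLinearGroup (Fin 3) F) := (QuotientGroup.eq_one_iff _).1 h1
  obtain ⟨s, -, hs⟩ := Matrix.SpecialLinearGroup.mem_center_iff.1 h2
  have h3 : ((D ^ 3 : _root_.Matrix.SpecialLinearGroup (Fin 3) F) : Matrix (Fin 3) (Fin 3) F) = diagonal (d ^ 3) := by
    rw [Matrix.SpecialLinearGroup.coe_pow, ← Matrix.diagonal_pow]
  rw [h3] at hs
  have hs0 := congrFun (congrFun hs 0) 0
  have hs2 := congrFun (congrFun hs 2) 2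
  simp [d] at hs0 hs2
  have h9 : r ^ 9 = 1 := by
    have h4 : r ^ 3 = ((r ^ 2) ^ 3)⁻¹ := hs0.symm.trans hs2
    have h5 : r ^ 3 * (r ^ 2) ^ 3 = 1 := by
      rw [h4]
      exact inv_mul_cancel₀ (pow_ne_zero _ (pow_ne_zero _ hr))
    calc r ^ 9 = r ^ 3 * (r ^ 2) ^ 3 := by ring
      _ = 1 := h5
  have h10 : g0 ^ 9 = 1 := by
    apply Units.ext
    simpa only [_root_.Units.val_pow_eq_pow_val, _root_.Units.val_one] using h9
  have h11 := orderOf_dvd_of_pow_eq_one h10
  rw [hg0o] at h11
  have h12 := Nat.le_of_dvd (by norm_num) h11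
  have h13 : 2 ≤ Fintype.card F := Fintype.one_lt_card
  have h14 : Fintype.card F ≤ 10 := by omega
  interval_cases Fintype.card F <;> omega

theorem psu3_one {q : ℕ} (hF : Fintype.card F = q ^ 2) (hq : q % 3 = 1) (h : Self3 (PSU 3 F q)) : False := by
  classical
  obtain ⟨w, hw⟩ := ThreeElts.exists_prime_SU2 hF Nat.prime_three (by norm_num)
    (Dvd.dvd.mul_left (ThreeList.three_sq (q := q) (by omega)) _)
  have hq1 : 1 < q := ThreeElts.one_lt_q hF
  obtain ⟨g0, hg0⟩ := IsCyclic.exists_generator (α := Fˣ)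
  have hg0o : orderOf g0 = q ^ 2 - 1 := by
    rw [orderOf_eq_card_of_forall_mem_zpowers hg0, Nat.card_eq_fintype_card, Fintype.card_units, hF]
  have hfac : q ^ 2 - 1 = (q - 1) * (q + 1) := by
    have : q ^ 2 - 1 = (q + 1) * (q - 1) := by
      have := Nat.sq_sub_sq q 1
      simpa only [_root_.one_pow] using this
    rw [this, mul_comm]
  have hord0 : orderOf (g0 ^ (q - 1)) = q + 1 := by
    rw [orderOf_pow_of_dvd (by omega) (by rw [hg0o, hfac]; exact dvd_mul_right _ _), hg0o, hfac]
    exact Nat.mul_div_cancel_left _ (by omega)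
  set u : Fˣ := g0 ^ (q - 1) with hu
  let r : F := (u : F)
  have hr : r ≠ 0 := u.ne_zero
  have hr1 : r * r ^ q = 1 := by
    have h1 : u ^ (q + 1) = 1 := by rw [← hord0]; exact pow_orderOf_eq_one u
    have h2 := congrArg (fun x : Fˣ => (x : F)) h1
    simp only [Units.val_pow_eq_pow_val, Units.val_one] at h2
    rw [← pow_succ']
    exact h2
  let d : Fin 3 → F := ![r, r, (r ^ 2)⁻¹]
  have hdet : (diagonal d).det = 1 := by
    rw [det_diagonal, Fin.prod_univ_three]
    change r * r * (r ^ 2)⁻¹ = 1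
    rw [← pow_two]
    exact mul_inv_cancel₀ (pow_ne_zero _ hr)
  have hdd : ∀ i, d i * d i ^ q = 1 := by
    intro i
    fin_cases i
    · exact hr1
    · exact hr1
    · change (r ^ 2)⁻¹ * ((r ^ 2)⁻¹) ^ q = 1
      have h1 : r ^ 2 * (r ^ 2) ^ q = 1 := by
        calc r ^ 2 * (r ^ 2) ^ q = (r * r ^ q) ^ 2 := by ring
          _ = 1 := by rw [hr1, one_pow]
      rw [inv_pow, ← mul_inv, h1, inv_one]
  let D : SU 3 F q := Phan.mk (diagonal d) hdet (by
    intro u v
    unfold hermForm
    apply Finset.sum_congr rfl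
    intro i _
    rw [mulVec_diagonal, mulVec_diagonal, mul_pow]
    calc d i * u i * (d i ^ q * v i ^ q) = (d i * d i ^ q) * (u i * v i ^ q) := by ring
      _ = u i * v i ^ q := by rw [hdd, one_mul])
  have h02 : 0 + 2 ≤ 3 := by norm_num
  have hde : ∀ i, d (sh 0 h02 i) = r := by
    intro i
    fin_cases i <;> rfl
  have hcomm : D * emb hF 0 h02 w = emb hF 0 h02 w * D := by
    apply mat_inj
    rw [mat_mul, mat_mul]
    have h1 : mat (emb hF 0 h02 w) = extM (sh 0 h02) (mat w) := mat_ext hF _ _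
    rw [h1]
    exact diag_extM hde _
  let π := QuotientGroup.mk' (center (SU 3 F q))
  have hord : orderOf (ThreeElts.psuEmb hF 0 h02 w) = 3 := by
    rw [orderOf_injective _ (ThreeElts.psuEmb_injective hF 0 h02 (by norm_num) (by norm_num)), hw]
  have h1 : (π D) ^ 3 = 1 := by
    apply h.cube hord
    change π D * π (emb hF 0 h02 w) = π (emb hF 0 h02 w) * π D
    rw [← map_mul, hcomm, map_mul]
  rw [← map_pow] at h1
  have h2 : D ^ 3 ∈ center (SU 3 F q) := (QuotientGroup.eq_one_iff _).1 h1
  obtain ⟨s, hs, hs', h3⟩ := (Cfsg.Agent.LieClassical.SUBasic.mem_center_SU_iff hF le_rfl _).1 h2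
  have h4 : mat (D ^ 3) = Matrix.diagonal fun _ => s := by
    rw [h3]
    exact Cfsg.Agent.LieClassical.SUBasic.coe_suScalar ..
  have h5 : mat (D ^ 3) = diagonal (d ^ 3) := by
    rw [← Matrix.diagonal_pow, pow_succ, pow_two, mat_mul, mat_mul, pow_succ, pow_two]
    rfl
  rw [h5] at h4
  have hs0 := congrFun (congrFun h4 0) 0
  have hs2 := congrFun (congrFun h4 2) 2
  simp [d] at hs0 hs2
  have h9 : r ^ 9 = 1 := by
    have h4 : r ^ 3 = ((r ^ 2) ^ 3)⁻¹ := hs0.trans hs2.symm
    have h5 : r ^ 3 * (r ^ 2) ^ 3 = 1 := by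
      rw [h4]
      exact inv_mul_cancel₀ (pow_ne_zero _ (pow_ne_zero _ hr))
    calc r ^ 9 = r ^ 3 * (r ^ 2) ^ 3 := by ring
      _ = 1 := h5
  have h10 : u ^ 9 = 1 := by
    apply Units.ext
    simpa only [_root_.Units.val_pow_eq_pow_val, _root_.Units.val_one] using h9
  have h11 := orderOf_dvd_of_pow_eq_one h10
  rw [hord0] at h11
  have h12 := Nat.le_of_dvd (by norm_num) h11
  have h14 : q ≤ 8 := by omega
  interval_cases q <;> omega

end Torus

theorem alt_nine {n : ℕ} (h6 : 6 ≤ n) : 9 ∣ Nat.card (alternatingGroup (Fin n)) := by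
  have : Nontrivial (Fin n) := Fin.nontrivial_iff_two_le.mpr (by omega)
  have h4 : 2 * Nat.card (alternatingGroup (Fin n)) = n.factorial := by
    have := two_mul_nat_card_alternatingGroup (α := Fin n)
    rw [this, Nat.card_perm, Nat.card_fin]
  have h5 : 2 * 9 ∣ n.factorial := dvd_trans (by decide) (Nat.factorial_dvd_factorial h6)
  rw [← h4] at h5
  exact Nat.dvd_of_mul_dvd_mul_left (by norm_num) h5

/-- **The simple case of the theorem of Feit and Thompson** from the list of simple groups: a known nonabelian finite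
simple group with an element whose centralizer has order 3 is `A₅` or `PSL(2, 7)`. -/
theorem of_known (T : OrdDiv.OrderTable.{u}) {G : Type u} [Group G] [Finite G] [IsSimpleGroup G]
    (hk : IsKnownSimple' G) (hG : ¬ IsMulCommutative G) (w : G)
    (hw : Nat.card (centralizer ({w} : Set G)) = 3) :
    Nonempty (G ≃* alternatingGroup (Fin 5)) ∨
      ∃ (F : Type) (_ : Field F) (_ : Fintype F), Fintype.card F = 7 ∧
        Nonempty (G ≃* ProjectiveSpecialLinearGroup (Fin 2) F) := by
  obtain ⟨hwo, h⟩ := of_cent hG w hw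
  have h3 : 3 ∣ Nat.card G := by rw [← hwo]; exact _root_.orderOf_dvd_natCard w
  have h27 : ¬ 27 ∣ Nat.card G := fun h' => h.nine (dvd_trans (by norm_num) h')
  have hna : ¬ ∀ a b : G, a * b = b * a := fun h' => hG (isMulCommutative_iff.2 h')
  have key : ∀ (x : OrdDiv.Grp × ℕ), x ∈ OrdDiv.spor → x.2 % 9 = 0 → OrdDiv.Real x.1 G → False :=
    fun x hx h0 hr => by
      apply h.nine
      rw [T.spor G x hx hr]
      exact Nat.dvd_of_mod_eq_zero h0
  rcases ThreeList.kind_of_known T hk hna h3 h27 with ⟨n, h5, h8, ⟨e⟩⟩ | ⟨F, _, _, hq, ⟨e⟩⟩ |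
    ⟨F, _, _, hq, h9, ⟨e⟩⟩ | ⟨F, _, _, hq, ⟨e⟩⟩ | ⟨F, _, _, hq, ⟨e⟩⟩ | ⟨F, _, _, q, hF, hq, hq2, h9, ⟨e⟩⟩ |
    ⟨F, _, _, q, hF, hq, ⟨e⟩⟩ | ⟨F, _, _, q, hF, hq, ⟨e⟩⟩ | ⟨F, _, _, hq, hq4, h9, ⟨e⟩⟩ | h' | h' | h' | h' | h'
  · -- alternating
    rcases Nat.lt_or_ge n 6 with h6 | h6
    · obtain rfl : n = 5 := by omega
      exact Or.inl ⟨e⟩
    · exact absurd (alt_nine h6) (h.congr e).nine
  · -- `PSL₂`
    have hcard := ThreeList.card_psl (F := F) (n := 2) le_rfl
    rw [show 2 - 1 = 1 by rfl, Finset.prod_range_one] at hcard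
    norm_num only [_root_.pow_one] at hcard
    rcases psl2 hq (h.congr e) with h1 | h1 | h1
    · left
      rw [h1] at hcard
      norm_num at hcard
      exact Cfsg.Agent.S0494.result (by rw [Nat.card_congr e.toEquiv, hcard])
    · left
      rw [h1] at hcard
      norm_num at hcard
      exact Cfsg.Agent.S0494.result (by rw [Nat.card_congr e.toEquiv]; omega)
    · right
      exact ⟨F, inferInstance, inferInstance, h1, ⟨e⟩⟩
  · -- `PSL₃`
    right
    have hmod : Fintype.card F % 3 = 1 ∨ Fintype.card F % 3 = 2 := by omega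
    rcases hmod with h1 | h1
    · exact absurd (psl3_one h1) (h.congr e).nine
    · have h2 := psl3_two h1 (h.congr e)
      have hc := ThreeList.card_psl (F := F) (n := 3) (by norm_num)
      rw [show 3 - 1 = 2 by rfl, Finset.prod_range_succ, Finset.prod_range_one, h2] at hc
      norm_num at hc
      have : Fact (Nat.Prime 7) := ⟨by norm_num⟩
      have h168 : Nat.card G = 168 := by rw [Nat.card_congr e.toEquiv, hc]
      exact ⟨ZMod 7, inferInstance, inferInstance, ZMod.card 7,
        Cfsg.Agent.S0495.result h168 (F := ZMod 7) (ZMod.card 7)⟩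
  · exact absurd (psl4 hq) (h.congr e).nine
  · exact absurd (psl5 hq) (h.congr e).nine
  · -- `PSU₃`
    have hmod : q % 3 = 1 ∨ q % 3 = 2 := by omega
    rcases hmod with h1 | h1
    · exact absurd (psu3_one hF h1 (h.congr e)) not_false
    · exact absurd (psu3_two hF h1) (h.congr e).nine
  · exact absurd (psu4 hF hq) (h.congr e).nine
  · exact absurd (psu5 hF hq) (h.congr e).nine
  · exact absurd (psp4 hq) (h.congr e).nine
  · exact absurd h' (fun h' => key (.m11, 7920) (by decide) (by norm_num) h')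
  · exact absurd h' (fun h' => key (.m22, 443520) (by decide) (by norm_num) h')
  · exact absurd h' (fun h' => key (.m23, 10200960) (by decide) (by norm_num) h')
  · exact absurd h' (fun h' => key (.hs, 44352000) (by decide) (by norm_num) h')
  · -- `J₁`
    exfalso
    obtain ⟨e⟩ := h'
    have h1 := h.congr e
    have h2 : orderOf (e w) = 3 := by rw [MulEquiv.orderOf_eq, hwo]
    have h3 := h1.cent (e w) h2
    rw [Cfsg.Agent.H413.JOneLocal.isLocal.cent3 (e w) h2] at h3
    omega

end Cfsg.Agent.H328.SelfThree
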